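import Cfsg.Agent.OddOrder.BG4.RankTwo
import Cfsg.Agent.H41.NormalElementary

/-!
BG 5.1, 5.2: `p`-groups of rank at least three with a maximal elementary subgroup of order `p ^ 2`.
-/

set_option autoImplicit false

namespace Cfsg.Agent.OddOrder.BG5

open Subgroup
open scoped commutatorElement

universe u

variable {R : Type u} [Group R] [Finite R] {p : ℕ} [hp : Fact p.Prime]

omit hp [Finite R] in
/-- Join of two commuting elementary abelian subgroups. -/
theorem elementary_sup {A B : Subgroup R} (hA : Cfsg.IsElementaryAbelian p A)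
    (hB : Cfsg.IsElementaryAbelian p B) (hAB : B ≤ centralizer (A : Set R)) :
    Cfsg.IsElementaryAbelian p (A ⊔ B : Subgroup R) := by
  have hn : B ≤ normalizer (A : Set R) := hAB.trans (centralizer_le_normalizer _)
  have hmem : ∀ x ∈ A ⊔ B, ∃ a ∈ A, ∃ b ∈ B, x = a * b := by
    intro x hx
    rw [← SetLike.mem_coe, coe_mul_of_right_le_normalizer_left A B hn] at hx
    obtain ⟨a, ha, b, hb, rfl⟩ := hx
    exact ⟨a, ha, b, hb, rfl⟩
  have hc : ∀ a ∈ A, ∀ b ∈ B, Commute a b := fun a ha b hb => mem_centralizer_iff.mp (hAB hb) a ha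
  refine ⟨PGroups.isMulCommutative_of_comm fun x hx y hy => ?_, fun x hx => ?_⟩
  · obtain ⟨a, ha, b, hb, rfl⟩ := hmem x hx
    obtain ⟨a', ha', b', hb', rfl⟩ := hmem y hy
    have h1 : Commute a a' := PGroups.comm_of_isMulCommutative hA.1 ha ha'
    have h2 : Commute b b' := PGroups.comm_of_isMulCommutative hB.1 hb hb'
    exact ((h1.mul_right (hc a ha b' hb')).mul_left ((hc a' ha' b hb).symm.mul_right h2)).eq
  · obtain ⟨a, ha, b, hb, rfl⟩ := hmem x hx
    rw [(hc a ha b hb).mul_pow, hA.2 a ha, hB.2 b hb, one_mul]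

omit hp [Finite R] in
theorem elementary_zpowers {x : R} (hx : x ^ p = 1) : Cfsg.IsElementaryAbelian p (zpowers x) :=
  ⟨inferInstance, fun y hy => by
    obtain ⟨i, rfl⟩ := mem_zpowers_iff.mp hy
    rw [← zpow_natCast, ← zpow_mul, mul_comm, zpow_mul, zpow_natCast, hx, one_zpow]⟩

omit hp in
/-- An element of order `p` commuting with a maximal elementary subgroup lies in it. -/
theorem mem_of_commute {E : Subgroup R} (hE : Cfsg.IsElementaryAbelian p E)
    (hEmax : ∀ B : Subgroup R, Cfsg.IsElementaryAbelian p B → E ≤ B → B = E) {x : R}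
    (hx : x ^ p = 1) (hc : x ∈ centralizer (E : Set R)) : x ∈ E :=
  hEmax _ (elementary_sup hE (elementary_zpowers hx) (zpowers_le.mpr hc)) le_sup_left ▸
    mem_sup_right (mem_zpowers x)

omit hp [Finite R] in
theorem exists_cube_of_not_rank {A : Subgroup R} (hA : Cfsg.IsElementaryAbelian p A)
    (hcard : p ^ 2 < Nat.card A) {B : Subgroup R} (hAB : A ≤ B) : ¬ Cfsg.PRankLE p 2 B := by
  intro h
  have h1 := h (A.subgroupOf B) (PGroups.isMulCommutative_of_comm fun x hx y hy => Subtype.ext
    (PGroups.comm_of_isMulCommutative hA.1 (mem_subgroupOf.mp hx) (mem_subgroupOf.mp hy)))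
    (fun x hx => Subtype.ext (by simpa using hA.2 _ (mem_subgroupOf.mp hx)))
  rw [Nat.card_congr (subgroupOfEquivOfLe hAB).toEquiv] at h1
  omega

/-- BG 5.1(a). -/
theorem exists_scn_containing (hp2 : p ≠ 2) (hR : IsPGroup p R) (hr : ¬ Cfsg.PRankLE p 2 R)
    (E : Subgroup R) [E.Normal] (hE : Cfsg.IsElementaryAbelian p E) (hE2 : Nat.card E = p ^ 2) :
    ∃ A : Subgroup R, E ≤ A ∧ A.Normal ∧ centralizer (A : Set R) = A ∧ ¬ Cfsg.PRankLE p 2 A := by
  obtain ⟨A₀, hA₀n, hA₀c, hA₀e, hA₀⟩ : ∃ A₀ : Subgroup R, A₀.Normal ∧ IsMulCommutative A₀ ∧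
      (∀ a ∈ A₀, a ^ p = 1) ∧ p ^ 3 ≤ Nat.card A₀ := by
    by_contra hno
    push Not at hno
    exact hr fun B hB hBe => H41.card_le_sq_of_no_normal hp2 hR hno B hB hBe
  -- the part of `A₀` centralizing `E`
  set D := A₀ ⊓ centralizer (E : Set R) with hD
  have hDe : Cfsg.IsElementaryAbelian p D :=
    ⟨PGroups.isMulCommutative_of_comm fun x hx y hy =>
      PGroups.comm_of_isMulCommutative hA₀c hx.1 hy.1, fun x hx => hA₀e x hx.1⟩
  have hidx : (centralizer (E : Set R)).index ≤ p := by
    simpa using PGroups.index_centralizer_le hR 2 E hE2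
  have hDcard : Nat.card A₀ ≤ p * Nat.card D := by
    have h2 : Nat.card A₀ = Nat.card D * (centralizer (E : Set R)).relIndex A₀ := by
      rw [← inf_relIndex_right, inf_comm]
      rw [← relIndex_bot_left, ← relIndex_bot_left, relIndex_mul_relIndex _ _ _ bot_le inf_le_left]
    rw [h2, mul_comm p]
    exact Nat.mul_le_mul_left _ (le_trans (Nat.le_of_dvd
      (Nat.pos_of_ne_zero index_ne_zero_of_finite) (relIndex_dvd_index_of_normal _ _)) hidx)
  set B := E ⊔ D with hB
  have hBe : Cfsg.IsElementaryAbelian p B := elementary_sup hE hDe inf_le_right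
  have hBbig : p ^ 2 < Nat.card B := by
    by_contra hle
    push Not at hle
    have hEB : E = B := eq_of_le_of_card_ge le_sup_left (hE2 ▸ hle)
    have hDE : D ≤ E := hEB.symm ▸ le_sup_right
    have hDc : p ^ 2 ≤ Nat.card D := by
      refine Nat.le_of_mul_le_mul_left ?_ hp.out.pos
      calc p * p ^ 2 = p ^ 3 := by ring
        _ ≤ _ := hA₀.trans hDcard
    have hDE' : D = E := eq_of_le_of_card_ge hDE (hE2 ▸ hDc)
    have hall : A₀ ≤ centralizer (E : Set R) := fun a ha => mem_centralizer_iff.mpr fun e he =>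
      PGroups.comm_of_isMulCommutative hA₀c (hDE'.ge he).1 ha
    have : A₀ ≤ E := fun a ha => hDE ⟨ha, hall ha⟩
    have := card_le_of_le this
    have := Nat.pow_lt_pow_right hp.out.one_lt (show 2 < 3 by omega)
    omega
  have hBn : B.Normal := sup_normal E D
  obtain ⟨A, hAn, hAc, hBA, hmax⟩ := PGroups.exists_maximal_normal_abelian B hBe.1
  exact ⟨A, le_sup_left.trans hBA, hAn, PGroups.centralizer_eq_self hR hAc hmax,
    exists_cube_of_not_rank hBe hBbig hBA⟩

/-- The data of BG 5.2. -/
structure NarrowData (p : ℕ) (R : Type u) [Group R] (E : Subgroup R) : Prop where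
  not_rank : ¬ Cfsg.PRankLE p 2 R
  elementary : Cfsg.IsElementaryAbelian p E
  card_eq : Nat.card E = p ^ 2
  maximal : ∀ B : Subgroup R, Cfsg.IsElementaryAbelian p B → E ≤ B → B = E

/-- `W = Ω₁(Z₂(R))`. -/
def omegaSecond (p : ℕ) (R : Type u) [Group R] : Subgroup R :=
  Subgroup.closure {x : R | x ∈ Subgroup.upperCentralSeries R 2 ∧ x ^ p = 1}

omit hp [Finite R] in
theorem mem_second_iff {x : R} :
    x ∈ Subgroup.upperCentralSeries R 2 ↔ ∀ y : R, ⁅x, y⁆ ∈ center R := by
  rw [show Subgroup.upperCentralSeries R 2 =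
    Subgroup.upperCentralSeriesStep (Subgroup.upperCentralSeries R 1)
    from rfl, Subgroup.mem_upperCentralSeriesStep, Subgroup.upperCentralSeries_one]

omit hp [Finite R] in
theorem omegaSecond_characteristic : (omegaSecond p R).Characteristic := by
  rw [characteristic_iff_le_comap]
  intro φ
  rw [omegaSecond, closure_le]
  rintro x ⟨hx, hxp⟩
  refine subset_closure ⟨?_, by rw [← map_pow, hxp, map_one]⟩
  rw [mem_second_iff] at hx ⊢
  intro y
  obtain ⟨y, rfl⟩ := φ.surjective y
  change ⁅φ x, φ y⁆ ∈ center R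
  rw [← map_commutatorElement]
  exact (PGroups.apply_mem_iff_of_characteristic centerCharacteristic φ).mpr (hx y)

omit [Finite R] in
/-- `Z₂` has class two, so `Ω₁(Z₂)` has exponent `p`. -/
theorem mem_omegaSecond_iff (hp2 : p ≠ 2) {x : R} :
    x ∈ omegaSecond p R ↔ x ∈ Subgroup.upperCentralSeries R 2 ∧ x ^ p = 1 := by
  refine ⟨fun hx => ?_, fun hx => subset_closure hx⟩
  induction hx using closure_induction with
  | mem y hy => exact hy
  | one => exact ⟨one_mem _, one_pow p⟩
  | mul a b _ _ ha hb =>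
    refine ⟨mul_mem ha.1 hb.1, ?_⟩
    set z := b⁻¹ * a⁻¹ * b * a with hz
    have hzc : z ∈ center R := by
      have := mem_second_iff.mp (inv_mem hb.1) a⁻¹
      rwa [commutatorElement_def, inv_inv, inv_inv] at this
    have h : b * a = a * b * z := by rw [hz]; group
    have hzp : z ^ p = 1 := by
      have h1 := H62.pow_mul_comm_central hzc h p
      rw [hb.2, one_mul, mul_one] at h1
      exact left_eq_mul.mp h1
    obtain ⟨k, hk⟩ : p ∣ p.choose 2 := by
      have := PGroups.dvd_choose_two_pow (p := p) hp.out hp2 1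
      rwa [pow_one] at this
    rw [H62.mul_pow_class_two hzc h, ha.2, hb.2, one_mul, one_mul, hk, pow_mul, hzp, one_pow]
  | inv a _ ha => exact ⟨inv_mem ha.1, by rw [inv_pow, ha.2, inv_one]⟩

variable {E : Subgroup R}

theorem NarrowData.center_omega (h : NarrowData p R E) (hR : IsPGroup p R) :
    ∃ z : R, z ∈ E ∧ z ∈ center R ∧ orderOf z = p ∧
      (∀ x ∈ center R, x ^ p = 1 → x ∈ zpowers z) := by
  have : Nontrivial R := by
    refine not_subsingleton_iff_nontrivial.mp fun hs => ?_
    refine h.not_rank fun A _ _ => ?_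
    rw [Nat.card_unique]
    exact Nat.one_le_pow _ _ hp.out.pos
  obtain ⟨z, -, hzc, hzo⟩ := PGroups.exists_mem_center_orderOf_eq hR (⊤ : Subgroup R) top_ne_bot
  have hZE : ∀ x ∈ center R, x ^ p = 1 → x ∈ E := fun x hx hxp =>
    mem_of_commute h.elementary h.maximal hxp (mem_centralizer_iff.mpr fun e _ =>
      Subgroup.mem_center_iff.mp hx e)
  refine ⟨z, hZE z hzc (hzo ▸ pow_orderOf_eq_one z), hzc, hzo, fun x hx hxp => ?_⟩
  by_contra hxz
  -- then `E` is central
  set S := zpowers z ⊔ zpowers x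
  have hSc : S ≤ center R := sup_le (zpowers_le.mpr hzc) (zpowers_le.mpr hx)
  have hSE : S ≤ E := sup_le (zpowers_le.mpr (hZE z hzc (hzo ▸ pow_orderOf_eq_one z)))
    (zpowers_le.mpr (hZE x hx hxp))
  have hlt : zpowers z < S := left_lt_sup.mpr fun hle => hxz (hle (mem_zpowers x))
  have hEc : E ≤ center R := by
    refine le_trans ?_ hSc
    obtain ⟨a, ha⟩ := IsPGroup.iff_card.mp (hR.to_subgroup S)
    have h1 : Nat.card (zpowers z) < Nat.card S := by
      refine lt_of_le_of_ne (card_le_of_le hlt.le) fun he => hlt.ne (eq_of_le_of_card_ge hlt.le he.ge)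
    rw [Nat.card_zpowers, hzo, ha] at h1
    have ha2 : 2 ≤ a := by
      by_contra hlt'
      push Not at hlt'
      have := Nat.pow_le_pow_right hp.out.pos (show a ≤ 1 by omega)
      rw [pow_one] at this
      omega
    exact (eq_of_le_of_card_ge hSE
      (by rw [h.card_eq, ha]; exact Nat.pow_le_pow_right hp.out.pos ha2)).ge
  refine h.not_rank fun A hA hAe => ?_
  have hle : A ≤ E := fun a ha => mem_of_commute h.elementary h.maximal (hAe a ha)
    (mem_centralizer_iff.mpr fun e he => (Subgroup.mem_center_iff.mp (hEc he) a).symm)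
  exact h.card_eq ▸ card_le_of_le hle

theorem NarrowData.main (h : NarrowData p R E) (hp2 : p ≠ 2) (hR : IsPGroup p R) :
    Cfsg.IsElementaryAbelian p (omegaSecond p R) ∧ Nat.card (omegaSecond p R) = p ^ 2 ∧
      ¬ E ≤ centralizer (omegaSecond p R : Set R) ∧
      (centralizer (omegaSecond p R : Set R)).index = p := by
  obtain ⟨z, hzE, hzc, hzo, hZ⟩ := h.center_omega hR
  set W := omegaSecond p R with hW
  have hWn : W.Normal := normal_of_characteristic (h := omegaSecond_characteristic) _
  have hWp : ∀ w ∈ W, w ^ p = 1 := fun w hw => ((mem_omegaSecond_iff hp2).mp hw).2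
  have hcomm : ∀ w ∈ W, ∀ g : R, ⁅w, g⁆ ∈ zpowers z := by
    intro w hw g
    have hwZ := ((mem_omegaSecond_iff hp2).mp hw).1
    have h1 := mem_second_iff.mp hwZ g
    refine hZ _ h1 ?_
    set c := ⁅w, g⁆ with hc
    have e1 : w * g = c * (g * w) := by rw [hc, commutatorElement_def]; group
    have hcc : ∀ y : R, Commute c y := fun y => (Subgroup.mem_center_iff.mp h1 y).symm
    have hn : ∀ n : ℕ, w ^ n * g = c ^ n * (g * w ^ n) := by
      intro n
      induction n with
      | zero => simp
      | succ n ih =>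
        calc w ^ (n + 1) * g = w * (w ^ n * g) := by rw [pow_succ', mul_assoc]
          _ = (w * c ^ n) * (g * w ^ n) := by rw [ih]; group
          _ = c ^ n * (w * g) * w ^ n := by rw [((hcc w).pow_left n).symm.eq]; group
          _ = c ^ (n + 1) * (g * w ^ (n + 1)) := by rw [e1, pow_succ c n, pow_succ' w n]; group
    have h3 := hn p
    rw [hWp w hw, one_mul, mul_one, right_eq_mul] at h3
    exact h3
  -- `E` is not inside `W`
  have hEW : ¬ E ≤ W := by
    intro hle
    have hEn : E.Normal := ⟨fun e he g => by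
      have h1 : ⁅e, g⁆ ∈ E := zpowers_le.mpr hzE (hcomm e (hle he) g)
      have h2 := E.mul_mem (E.inv_mem h1) he
      rwa [show ⁅e, g⁆⁻¹ * e = g * e * g⁻¹ by rw [commutatorElement_def]; group] at h2⟩
    obtain ⟨A, hEA, -, hAc, hAr⟩ := exists_scn_containing hp2 hR h.not_rank E h.elementary h.card_eq
    refine hAr fun B hB hBe => ?_
    have hle' : B.map A.subtype ≤ E := by
      rintro _ ⟨b, hb, rfl⟩
      refine mem_of_commute h.elementary h.maximal (by
        simpa using congrArg Subtype.val (hBe b hb)) (mem_centralizer_iff.mpr fun e he => ?_)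
      exact (mem_centralizer_iff.mp (hAc.ge (hEA he)) _ b.2).symm
    have := card_le_of_le hle'
    rwa [card_map_of_injective A.subtype_injective, h.card_eq] at this
  have hzW : z ∈ W := (mem_omegaSecond_iff hp2).mpr ⟨mem_second_iff.mpr fun y => by
    rw [commutatorElement_eq_one_iff_mul_comm.mpr (Subgroup.mem_center_iff.mp hzc y).symm]
    exact one_mem _, hzo ▸ pow_orderOf_eq_one z⟩
  have hinf : E ⊓ W = zpowers z := by
    refine (eq_of_le_of_card_ge (zpowers_le.mpr (Subgroup.mem_inf.mpr ⟨hzE, hzW⟩)) ?_).symm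
    rw [Nat.card_zpowers, hzo]
    obtain ⟨a, ha⟩ := IsPGroup.iff_card.mp (hR.to_subgroup (E ⊓ W))
    rw [ha]
    refine le_trans (Nat.pow_le_pow_right hp.out.pos (?_ : a ≤ 1)) (pow_one p).le
    by_contra hlt
    push Not at hlt
    exact hEW (inf_eq_left.mp (eq_of_le_of_card_ge inf_le_left
      (by rw [h.card_eq, ha]; exact Nat.pow_le_pow_right hp.out.pos hlt)))
  obtain ⟨e₀, he₀, he₀z⟩ : ∃ e₀ ∈ E, e₀ ∉ zpowers z := by
    refine SetLike.not_le_iff_exists.mp fun hle => ?_
    have := card_le_of_le hle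
    rw [h.card_eq, Nat.card_zpowers, hzo, pow_two] at this
    nlinarith [hp.out.one_lt]
  have hgen : E = zpowers z ⊔ zpowers e₀ := by
    refine (eq_of_le_of_card_ge (sup_le (zpowers_le.mpr hzE) (zpowers_le.mpr he₀)) ?_).symm
    obtain ⟨a, ha⟩ := IsPGroup.iff_card.mp (hR.to_subgroup (zpowers z ⊔ zpowers e₀))
    rw [h.card_eq, ha]
    refine Nat.pow_le_pow_right hp.out.pos ?_
    by_contra hlt
    have : zpowers z ⊔ zpowers e₀ = zpowers z := (eq_of_le_of_card_ge le_sup_left (by
      rw [Nat.card_zpowers, hzo, ha]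
      exact le_trans (Nat.pow_le_pow_right hp.out.pos (by omega : a ≤ 1)) (pow_one p).le)).symm
    exact he₀z (this.le (mem_sup_right (mem_zpowers e₀)))
  -- `|W| ≤ p ^ 2`
  have hWle : Nat.card W ≤ p ^ 2 := by
    let φ : W →* R :=
      { toFun := fun w => ⁅(w : R), e₀⁆
        map_one' := commutatorElement_one_left e₀
        map_mul' := fun a b => by
          have hb : ⁅(b : R), e₀⁆ ∈ center R := (zpowers_le.mpr hzc) (hcomm b b.2 e₀)
          calc ⁅((a * b : W) : R), e₀⁆ = a * ⁅(b : R), e₀⁆ * (a : R)⁻¹ * ⁅(a : R), e₀⁆ := by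
                simp only [coe_mul, commutatorElement_def]; group
            _ = ⁅(b : R), e₀⁆ * ⁅(a : R), e₀⁆ := by
                rw [Subgroup.mem_center_iff.mp hb, mul_inv_cancel_right]
            _ = ⁅(a : R), e₀⁆ * ⁅(b : R), e₀⁆ := (Subgroup.mem_center_iff.mp hb _).symm }
    have hk : Nat.card φ.ker ≤ p := by
      have hle : φ.ker.map W.subtype ≤ zpowers z := by
        rintro _ ⟨w, hw, rfl⟩
        rw [← hinf]
        refine ⟨mem_of_commute h.elementary h.maximal (hWp _ w.2) ?_, w.2⟩
        have hwc : Commute (w : R) e₀ :=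
          commutatorElement_eq_one_iff_mul_comm.mp (MonoidHom.mem_ker.mp hw)
        rw [hgen]
        refine mem_centralizer_iff.mpr fun e he => ?_
        have hle : zpowers z ⊔ zpowers e₀ ≤ centralizer ({(w : R)} : Set R) :=
          sup_le (zpowers_le.mpr (mem_centralizer_singleton_iff.mpr
            (Subgroup.mem_center_iff.mp hzc (w : R)).symm))
            (zpowers_le.mpr (mem_centralizer_singleton_iff.mpr hwc.symm))
        exact mem_centralizer_singleton_iff.mp (hle he)
      have := card_le_of_le hle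
      rwa [card_map_of_injective W.subtype_injective, Nat.card_zpowers, hzo] at this
    have hr : Nat.card φ.range ≤ p := by
      have hle : φ.range ≤ zpowers z := by
        rintro _ ⟨w, rfl⟩
        exact hcomm w w.2 e₀
      have := card_le_of_le hle
      rwa [Nat.card_zpowers, hzo] at this
    rw [← φ.ker.card_mul_index, index_ker, pow_two]
    exact Nat.mul_le_mul hk hr
  obtain ⟨N, hNn, hNc, hNe, hN⟩ :=
    H41.exists_normal_elementary_sq hp2 hR h.elementary.1 h.elementary.2 h.card_eq.ge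
  have hNW : N ≤ W := by
    intro n hn
    refine (mem_omegaSecond_iff hp2).mpr ⟨mem_second_iff.mpr fun g => ?_, hNe n hn⟩
    obtain ⟨M, hMn, hMN, -, hM⟩ : ∃ M : Subgroup R, M.Normal ∧ M ≤ N ∧ M ≤ center R ∧
        Nat.card M = p := by
      have hne : N ≠ ⊥ := fun e => by
        rw [e, card_bot] at hN
        exact absurd hN.symm (Nat.one_lt_pow two_ne_zero hp.out.one_lt).ne'
      obtain ⟨y, hyN, hyc, hyo⟩ := PGroups.exists_mem_center_orderOf_eq hR N hne
      exact ⟨zpowers y, PGroups.normal_of_le_center (zpowers_le.mpr hyc), zpowers_le.mpr hyN,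
        zpowers_le.mpr hyc, by rw [Nat.card_zpowers, hyo]⟩
    have hMc : M ≤ center R := PGroups.le_center_of_card_eq hR M hM
    have := PGroups.commutatorElement_mem_of_card hR hMN (by rw [hN, hM, pow_two]) hn g
    rw [← commutatorElement_inv]
    exact inv_mem (hMc this)
  have hWN : N = W := eq_of_le_of_card_ge hNW (hN ▸ hWle)
  have hWe : Cfsg.IsElementaryAbelian p W := hWN ▸ ⟨hNc, hNe⟩
  have hWcard : Nat.card W = p ^ 2 := hWN ▸ hN
  have hnot : ¬ E ≤ centralizer (W : Set R) := by
    intro hle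
    have hWE : W ≤ E := fun w hw => mem_of_commute h.elementary h.maximal (hWp w hw)
      (le_centralizer_iff.mp hle hw)
    exact hEW (eq_of_le_of_card_ge hWE (by rw [h.card_eq, hWcard])).ge
  refine ⟨hWe, hWcard, hnot, ?_⟩
  have hle : (centralizer (W : Set R)).index ≤ p := by
    simpa using PGroups.index_centralizer_le hR 2 W hWcard
  obtain ⟨a, ha⟩ := hR.index (centralizer (W : Set R))
  have ha0 : a ≠ 0 := fun e => hnot (by
    have h' : centralizer (W : Set R) = ⊤ := index_eq_one.mp (by rw [ha, e, pow_zero])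
    rw [h']; exact le_top)
  refine le_antisymm hle ?_
  rw [ha]
  exact Nat.le_self_pow ha0 p

theorem narrow_conclusion (hp2 : p ≠ 2) (hR : IsPGroup p R) (h : NarrowData p R E) :
    ¬ E ≤ centralizer (omegaSecond p R : Set R) ∧
      Nat.card ↥(Subgroup.closure {x : R | x ∈ center R ∧ x ^ p = 1}) = p ∧
      (Cfsg.IsElementaryAbelian p (omegaSecond p R) ∧ Nat.card (omegaSecond p R) = p ^ 2) ∧
      (centralizer (omegaSecond p R : Set R)).Characteristic ∧
      (centralizer (omegaSecond p R : Set R)).index = p := by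
  obtain ⟨h1, h2, h3, h4⟩ := h.main hp2 hR
  refine ⟨h3, ?_, ⟨h1, h2⟩, ?_, h4⟩
  · obtain ⟨z, -, hzc, hzo, hZ⟩ := h.center_omega hR
    have he : Subgroup.closure {x : R | x ∈ center R ∧ x ^ p = 1} = zpowers z := by
      refine le_antisymm ((closure_le _).mpr fun x hx => hZ x hx.1 hx.2) (zpowers_le.mpr ?_)
      exact subset_closure ⟨hzc, hzo ▸ pow_orderOf_eq_one z⟩
    rw [he, Nat.card_zpowers, hzo]
  · rw [characteristic_iff_le_comap]
    intro φ x hx
    refine mem_centralizer_iff.mpr fun w hw => ?_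
    have := mem_centralizer_iff.mp hx (φ.symm w)
      ((PGroups.apply_mem_iff_of_characteristic omegaSecond_characteristic φ.symm).mpr hw)
    simpa using congrArg φ this

end Cfsg.Agent.OddOrder.BG5
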