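import Cfsg.Agent.OddOrder.BG5.NarrowAut
import Cfsg.Agent.OddOrder.BG4.Fitting
import Cfsg.Agent.Cores.UpperSeries

/-!
BG 5.5, 5.6, 5.7: groups acting on narrow `p`-groups.
-/

set_option autoImplicit false

namespace Cfsg.Agent.OddOrder.BG5

open Subgroup
open scoped commutatorElement

universe u

variable {G : Type u} [Group G] [Finite G] {p : ℕ} [hp : Fact p.Prime]

/-- BG 5.5 for a subgroup with the data of BG 5.2. -/
theorem narrowData_action {R A : Subgroup G} {E : Subgroup R} (h : NarrowData p R E) (hp2 : p ≠ 2)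
    (hR : IsPGroup p R) (hA : A ≤ normalizer (R : Set G)) :
    (∀ g ∈ ⁅A, A⁆, ∃ k : ℕ, g ^ p ^ k ∈ centralizer (R : Set G)) ∧
      ∀ a ∈ A, (orderOf a).Coprime p → a ^ (p - 1) ∈ centralizer (R : Set G) := by
  obtain ⟨h1, h2⟩ := narrow_aut h hp2 hR
  set f : A →* MulAut R := R.normalizerMonoidHom.comp (inclusion hA) with hf
  have hker : ∀ a : A, f a = 1 → (a : G) ∈ centralizer (R : Set G) := by
    intro a ha
    have : inclusion hA a ∈ (centralizer (R : Set G)).subgroupOf (normalizer (R : Set G)) := by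
      rw [← normalizerMonoidHom_ker]
      exact ha
    simpa using mem_subgroupOf.mp this
  constructor
  · intro g hg
    rw [← map_subtype_commutator] at hg
    obtain ⟨x, hx, rfl⟩ := hg
    have hfx : f x ∈ commutator (MulAut R) := by
      have := mem_map_of_mem f hx
      rw [commutator_def, map_commutator] at this
      rw [commutator_def]
      exact commutator_mono le_top le_top this
    obtain ⟨k, hk⟩ := h1 ⟨_, hfx⟩
    refine ⟨k, ?_⟩
    have h3 := hker (x ^ p ^ k) (by rw [map_pow]; exact congrArg Subtype.val hk)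
    simpa using h3
  · intro a ha hcop
    have h3 := h2 (f ⟨a, ha⟩) (hcop.coprime_dvd_left ((orderOf_map_dvd f _).trans (by
      rw [Subgroup.orderOf_mk])))
    simpa using hker (⟨a, ha⟩ ^ (p - 1)) (by rw [map_pow]; exact h3)

/-- BG 4.17 and 5.5: a solvable odd group acting on a narrow `p`-group. -/
theorem narrow_action_derived (hp2 : p ≠ 2) {R A : Subgroup G} (hR : IsPGroup p R)
    (hn : Cfsg.IsNarrow p R) (hA : A ≤ normalizer (R : Set G)) (hAs : Group.IsSolvable A)
    (hAodd : Odd (Nat.card A)) {g : G} (hg : g ∈ ⁅A, A⁆) :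
    ∃ k : ℕ, g ^ p ^ k ∈ centralizer (R : Set G) := by
  by_cases hr : Cfsg.PRankLE p 2 R
  · exact BG4.exists_pow_mem_centralizer_of_rank_two hp2 hR hr hA hAs hAodd hg
  · obtain ⟨E, hE⟩ := exists_narrowData hR hn hr
    exact (narrowData_action hE hp2 hR hA).1 g hg

/-- A normal Sylow subgroup from a derived `p`-group. -/
theorem derived_le_pCore {A : Type u} [Group A] [Finite A] (h : IsPGroup p ↥(commutator A)) :
    commutator A ≤ Cfsg.pCore p A ∧ ((Cfsg.pCore p A).index).Coprime p := by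
  have hle : commutator A ≤ Cfsg.pCore p A := Cores.le_pCore h
  refine ⟨hle, ?_⟩
  obtain ⟨S⟩ := (inferInstance : Nonempty (Sylow p A))
  have hSn : (S : Subgroup A).Normal :=
    Normal.of_commutator_le A (hle.trans (Cores.pCore_le_sylow S))
  have hSle : (S : Subgroup A) ≤ Cfsg.pCore p A := Cores.le_pCore S.isPGroup'
  rw [Nat.coprime_comm, hp.out.coprime_iff_not_dvd]
  exact fun hd => S.not_dvd_index (hd.trans (index_dvd_of_le hSle))

/-- BG 5.5(a), (b) and the first half of (c). -/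
theorem narrow_action (hp2 : p ≠ 2) {R A : Subgroup G} (hR : IsPGroup p R)
    (hn : Cfsg.IsNarrow p R) (hA : A ≤ normalizer (R : Set G)) (hAs : Group.IsSolvable A)
    (hAodd : Odd (Nat.card A)) (hfaith : A ⊓ centralizer (R : Set G) = ⊥) :
    (commutator ↥A ≤ Cfsg.pCore p ↥A ∧ ((Cfsg.pCore p ↥A).index).Coprime p) ∧
      (¬ Cfsg.PRankLE p 2 R → ∀ a ∈ A, (orderOf a).Coprime p → orderOf a ∣ p - 1) ∧
      ((Nat.card A).Prime → ¬ Nat.card A ∣ p * (p - 1) →
        Cfsg.PRankLE p 2 R ∧ 2 * Nat.card A ∣ p + 1) := by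
  have hone : ∀ x ∈ A, x ∈ centralizer (R : Set G) → x = 1 := fun x hx hxc =>
    mem_bot.mp (hfaith ▸ mem_inf.mpr ⟨hx, hxc⟩)
  have hcyc : ¬ Cfsg.PRankLE p 2 R → ∀ a ∈ A, (orderOf a).Coprime p → orderOf a ∣ p - 1 := by
    intro hr a ha hcop
    obtain ⟨E, hE⟩ := exists_narrowData hR hn hr
    exact orderOf_dvd_of_pow_eq_one
      (hone _ (pow_mem ha _) ((narrowData_action hE hp2 hR hA).2 a ha hcop))
  refine ⟨derived_le_pCore ?_, hcyc, fun hq hnd => ?_⟩
  · rintro ⟨g, hg⟩
    have hg' : (g : G) ∈ ⁅A, A⁆ := by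
      rw [← map_subtype_commutator]
      exact mem_map_of_mem _ hg
    obtain ⟨k, hk⟩ := narrow_action_derived hp2 hR hn hA hAs hAodd hg'
    refine ⟨k, Subtype.ext (Subtype.ext ?_)⟩
    exact hone _ (pow_mem g.2 _) hk
  · have hqp : Nat.card A ≠ p := fun e => hnd (by rw [e]; exact dvd_mul_right p _)
    have hq1 : ¬ Nat.card A ∣ p - 1 := fun e => hnd (e.mul_left p)
    have : Fact (Nat.card A).Prime := ⟨hq⟩
    obtain ⟨a, hao⟩ := exists_prime_orderOf_dvd_card' (G := A) (Nat.card A) dvd_rfl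
    rw [← Subgroup.orderOf_coe] at hao
    have hr : Cfsg.PRankLE p 2 R := by
      by_contra hr
      exact hq1 (hao ▸ hcyc hr a a.2 (by
        rw [hao]; exact (Nat.coprime_primes hq hp.out).mpr hqp))
    refine ⟨hr, Nat.Coprime.mul_dvd_of_dvd_of_dvd ?_ ?_ ?_⟩
    · exact Nat.coprime_two_left.mpr hAodd
    · have := hp.out.eq_two_or_odd.resolve_left hp2
      omega
    · refine (BG4.prime_dvd_of_small_action hp2 hR hr (hA a.2) hq hqp (k := 1)
        (by rw [pow_one, hao]) fun hc => ?_).resolve_left hq1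
      have h1 := hone _ a.2 hc
      rw [h1, orderOf_one] at hao
      exact hq.ne_one hao.symm

omit hp in
/-- Narrowness is invariant under isomorphism. -/
theorem isNarrow_of_equiv {R : Type u} [Group R] {S : Type u} [Group S] (e : R ≃* S)
    (hn : Cfsg.IsNarrow p R) : Cfsg.IsNarrow p S := by
  have hinj : Function.Injective e.toMonoidHom := e.injective
  rcases hn with h | ⟨R₀, R₁, h0, h1, hinf, hcomm, hsup⟩
  · refine Or.inl fun B hB hBe => ?_
    rw [← card_map_of_injective (f := e.symm.toMonoidHom) e.symm.injective]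
    refine h _ (PGroups.isMulCommutative_of_comm ?_) ?_
    · rintro _ ⟨a, ha, rfl⟩ _ ⟨b, hb, rfl⟩
      rw [← map_mul, ← map_mul, PGroups.comm_of_isMulCommutative hB ha hb]
    · rintro _ ⟨a, ha, rfl⟩
      rw [← map_pow, hBe a ha, map_one]
  · refine Or.inr ⟨R₀.map e.toMonoidHom, R₁.map e.toMonoidHom, ?_,
      isCyclic_of_surjective _ (R₁.equivMapOfInjective _ hinj).surjective, ?_, ?_, ?_⟩
    · rw [card_map_of_injective hinj, h0]
    · rw [← map_inf _ _ _ hinj, hinf, Subgroup.map_bot]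
    · rintro _ ⟨a, ha, rfl⟩ _ ⟨b, hb, rfl⟩
      rw [← map_mul, ← map_mul, hcomm a ha b hb]
    · rw [← Subgroup.map_sup, hsup]
      ext y
      obtain ⟨x, rfl⟩ := e.surjective y
      change e.toMonoidHom x ∈ _ ↔ e x ∈ _
      rw [mem_map_iff_mem hinj, mem_centralizer_iff, mem_centralizer_iff]
      constructor
      · rintro hx _ ⟨a, ha, rfl⟩
        change e a * e x = e x * e a
        rw [← map_mul, ← map_mul, hx a ha]
      · intro hx a ha
        have h2 := hx _ ⟨a, ha, rfl⟩
        change e a * e x = e x * e a at h2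
        rw [← map_mul, ← map_mul] at h2
        exact e.injective h2

theorem narrow_structure [Group.IsSolvable G] (hodd : Odd (Nat.card G)) (hpG : p ∣ Nat.card G)
    (S : Sylow p G) (hS : Cfsg.IsNarrow p ↥(S : Subgroup G))
    (hpl : ¬ Cfsg.PRankLE p 2 ↥(S : Subgroup G) → Cfsg.PLengthLE p 1 G) :
    (∀ q : ℕ, q.Prime → q ∣ (Cfsg.pPrimeCore p G).index → q ≤ p) ∧
      ((p = 3 ∨ ∀ q : ℕ, q.Prime → q ∣ Nat.card G → p ≤ q) → Cfsg.HasNormalPComplement p G) ∧
      Cfsg.HasNormalPComplement p ↥(commutator G) ∧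
      (∀ L : Subgroup ↥(commutator G), (Nat.card L).Coprime p →
        L ≤ Cfsg.pPrimeCore p ↥(commutator G)) ∧
      commutator G ≤ Cfsg.pPrimePCore p G ∧ ((Cfsg.pPrimePCore p G).index).Coprime p := by
  by_cases hr : Cfsg.PRankLE p 2 ↥(S : Subgroup G)
  · refine BG4.rank_two_structure hodd hpG fun B hB hBe => ?_
    have hBp : IsPGroup p B := fun b => ⟨1, Subtype.ext (by simpa using hBe b b.2)⟩
    obtain ⟨T, hBT⟩ := hBp.exists_le_sylow
    obtain ⟨g, rfl⟩ := MulAction.exists_smul_eq G S T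
    rw [← card_map_of_injective (f := (MulAut.conj g⁻¹).toMonoidHom) (MulAut.conj g⁻¹).injective]
    have hle : B.map (MulAut.conj g⁻¹).toMonoidHom ≤ (S : Subgroup G) := by
      rintro _ ⟨b, hb, rfl⟩
      obtain ⟨s, hs, hsb⟩ := hBT hb
      rw [← hsb]
      change g⁻¹ * (g * s * g⁻¹) * g⁻¹⁻¹ ∈ (S : Subgroup G)
      rwa [show g⁻¹ * (g * s * g⁻¹) * g⁻¹⁻¹ = s from by group]
    rw [← Nat.card_congr (subgroupOfEquivOfLe hle).toEquiv]
    refine hr _ (PGroups.isMulCommutative_of_comm fun x hx y hy => Subtype.ext ?_)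
      fun x hx => Subtype.ext ?_
    · obtain ⟨a, ha, hax⟩ := mem_subgroupOf.mp hx
      obtain ⟨b, hb, hby⟩ := mem_subgroupOf.mp hy
      rw [Subgroup.coe_mul, Subgroup.coe_mul, ← hax, ← hby, ← map_mul, ← map_mul,
        PGroups.comm_of_isMulCommutative hB ha hb]
    · obtain ⟨a, ha, hax⟩ := mem_subgroupOf.mp hx
      rw [SubmonoidClass.coe_pow, ← hax, ← map_pow, hBe a ha, map_one, coe_one]
  have hp2 : p ≠ 2 := BG4.ne_two_of_dvd_of_odd hodd hpG
  set O := Cfsg.pPrimeCore p G with hO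
  set f := QuotientGroup.mk' O with hf
  have hsurj : Function.Surjective f := QuotientGroup.mk'_surjective O
  have hidx : ((Cfsg.pCore p (G ⧸ O)).index).Coprime p := by
    have h1 := Cores.pLengthLE_one_iff.mp (hpl hr)
    rw [← index_eq_card] at h1
    rwa [show (Cfsg.pPrimePCore p G).index = (Cfsg.pCore p (G ⧸ O)).index from
      index_comap_of_surjective _ hsurj] at h1
  set R := Cfsg.pCore p (G ⧸ O) with hR
  have hRp : IsPGroup p R := Cores.pCore_isPGroup
  set T := S.mapSurjective hsurj with hT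
  have hRT : R = (T : Subgroup (G ⧸ O)) := by
    refine eq_of_le_of_card_ge (Cores.pCore_le_sylow T) (Nat.le_of_dvd Nat.card_pos ?_)
    obtain ⟨k, hk⟩ := IsPGroup.iff_card.mp T.isPGroup'
    rw [hk]
    refine (Nat.Coprime.pow_left k hidx.symm).dvd_of_dvd_mul_right (m := Nat.card R) ?_
    rw [R.card_mul_index, ← hk]
    exact card_subgroup_dvd_card _
  have hinj : Function.Injective (f.subgroupMap (S : Subgroup G)) := by
    rw [injective_iff_map_eq_one]
    intro s hs
    have hsO : (s : G) ∈ O := (QuotientGroup.eq_one_iff _).mp (congrArg Subtype.val hs)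
    obtain ⟨k, hk⟩ := IsPGroup.iff_orderOf.mp S.isPGroup' s
    rw [← Subgroup.orderOf_coe] at hk
    refine Subtype.ext (orderOf_eq_one_iff.mp ?_)
    exact Nat.eq_one_of_dvd_coprimes ((Cores.coprime_card_pPrimeCore (p := p) (G := G)).pow_right k)
      (O.orderOf_dvd_natCard hsO) hk.dvd
  let e : ↥(S : Subgroup G) ≃* R :=
    (MulEquiv.ofBijective _ ⟨hinj, f.subgroupMap_surjective _⟩).trans
      (MulEquiv.subgroupCongr hRT.symm)
  have hn : Cfsg.IsNarrow p R := isNarrow_of_equiv e hS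
  have hrR : ¬ Cfsg.PRankLE p 2 R := fun h => hr fun B hB hBe => by
    rw [← card_map_of_injective (f := e.toMonoidHom) e.injective]
    refine h _ (PGroups.isMulCommutative_of_comm ?_) ?_
    · rintro _ ⟨a, ha, rfl⟩ _ ⟨b, hb, rfl⟩
      rw [← map_mul, ← map_mul, PGroups.comm_of_isMulCommutative hB ha hb]
    · rintro _ ⟨a, ha, rfl⟩
      rw [← map_pow, hBe a ha, map_one]
  obtain ⟨E, hE⟩ := exists_narrowData hRp hn hrR
  have hRn : R.Normal := H58.pCore_normal
  obtain ⟨h1, h2⟩ := narrowData_action (A := ⊤) hE hp2 hRp (normalizer_eq_top (H := R)).ge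
  have hCR := BG4.centralizer_pCore_quotient_le (p := p) (G := G)
  refine BG4.structure_of_derived ?_ ?_ hodd
  · refine Cores.le_pCore (N := commutator (G ⧸ O)) fun ⟨g, hg⟩ => ?_
    obtain ⟨k, hk⟩ := h1 g (by rwa [← _root_.commutator_def])
    obtain ⟨i, hi⟩ := hRp ⟨g ^ p ^ k, hCR hk⟩
    refine ⟨k + i, Subtype.ext ?_⟩
    have := congrArg Subtype.val hi
    rw [SubmonoidClass.coe_pow, coe_one] at this ⊢
    rw [pow_add, pow_mul]
    exact this
  · intro x hq hqp
    have h3 : x ^ (p - 1) ∈ R :=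
      hCR (h2 x (mem_top x) ((Nat.coprime_primes hq hp.out).mpr hqp))
    obtain ⟨k, hk⟩ := IsPGroup.iff_orderOf.mp hRp ⟨_, h3⟩
    rw [Subgroup.orderOf_mk] at hk
    have h4 : orderOf (x ^ (p - 1)) = 1 := Nat.eq_one_of_dvd_coprimes
      (((Nat.coprime_primes hq hp.out).mpr hqp).pow_right k) (orderOf_pow_dvd _) hk.dvd
    have h5 := orderOf_dvd_of_pow_eq_one (orderOf_eq_one_iff.mp h4)
    have := hp.out.two_le
    have := Nat.le_of_dvd (by omega) h5
    omega

/-- A maximal elementary abelian subgroup of order at most `p ^ 2` above rank two has order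
`p ^ 2`. -/
theorem exists_narrowData_of_small_centralizer {R : Type u} [Group R] [Finite R]
    (hR : IsPGroup p R) (hr : ¬ Cfsg.PRankLE p 2 R) (E : Subgroup R)
    (hE : Cfsg.IsElementaryAbelian p E)
    (hc : Cfsg.PRankLE p 2 (centralizer (E : Set R))) :
    ∃ B : Subgroup R, NarrowData p R B := by
  obtain ⟨B, hEB, ⟨hBe, hmax⟩⟩ := (Set.toFinite
    {B : Subgroup R | Cfsg.IsElementaryAbelian p B}).exists_le_maximal hE
  have hmax' : ∀ C : Subgroup R, Cfsg.IsElementaryAbelian p C → B ≤ C → C = B :=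
    fun C hC h => le_antisymm (hmax hC h) h
  have hBC : B ≤ centralizer (E : Set R) := fun b hb => mem_centralizer_iff.mpr fun e he =>
    PGroups.comm_of_isMulCommutative hBe.1 (hEB he) hb
  have hB2 : Nat.card B ≤ p ^ 2 := BG4.pRankLE_of_le hBC hc ⊤
    (PGroups.isMulCommutative_of_comm fun x _ y _ => Subtype.ext
      (PGroups.comm_of_isMulCommutative hBe.1 x.2 y.2))
    (fun x _ => Subtype.ext (by simpa using hBe.2 x x.2)) |>.trans' (by rw [card_top])
  refine ⟨B, hr, hBe, ?_, hmax'⟩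
  obtain ⟨a, ha⟩ := IsPGroup.iff_card.mp (hR.to_subgroup B)
  rw [ha] at hB2 ⊢
  have ha2 : a ≤ 2 := (Nat.pow_le_pow_iff_right hp.out.one_lt).mp hB2
  by_contra hne
  have ha1 : a ≤ 1 := by
    rcases Nat.lt_or_ge a 2 with h | h
    · omega
    · exact absurd (by rw [le_antisymm ha2 h]) hne
  have : Nontrivial R := by
    refine not_subsingleton_iff_nontrivial.mp fun hs => hr fun A _ _ => ?_
    rw [Nat.card_unique]
    exact Nat.one_le_pow _ _ hp.out.pos
  obtain ⟨z, -, hzc, hzo⟩ := PGroups.exists_mem_center_orderOf_eq hR (⊤ : Subgroup R) top_ne_bot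
  have hzB : z ∈ B := mem_of_commute hBe hmax' (hzo ▸ pow_orderOf_eq_one z)
    (mem_centralizer_iff.mpr fun e _ => Subgroup.mem_center_iff.mp hzc e)
  have hBz : zpowers z = B := eq_of_le_of_card_ge (zpowers_le.mpr hzB) (by
    rw [Nat.card_zpowers, hzo, ha]
    exact le_trans (Nat.pow_le_pow_right hp.out.pos ha1) (pow_one p).le)
  refine hr fun A hA hAe => ?_
  have hle : A ≤ B := fun x hx => mem_of_commute hBe hmax' (hAe x hx)
    (mem_centralizer_iff.mpr fun b hb => by
      rw [← hBz] at hb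
      exact (Subgroup.mem_center_iff.mp ((zpowers_le.mpr hzc) hb) x).symm)
  refine (card_le_of_le hle).trans ?_
  rw [ha]
  exact Nat.pow_le_pow_right hp.out.pos ha2

/-- BG 5.7. -/
theorem commutator_le_fitting [Group.IsSolvable G] (hodd : Odd (Nat.card G)) (E : Subgroup G)
    (hE : E ≤ Cfsg.fittingSubgroup G) (hEe : Cfsg.IsElementaryAbelian p E)
    (hr : Cfsg.RankLE 2 ↥(Cfsg.fittingSubgroup G ⊓ centralizer (E : Set G))) :
    commutator G ≤ Cfsg.fittingSubgroup G := by
  refine BG4.commutator_le_fitting_of_action fun r hrp g hg => ?_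
  have : Fact r.Prime := ⟨hrp⟩
  by_cases hbot : Cfsg.pCore r G = ⊥
  · exact ⟨0, mem_centralizer_iff.mpr fun y hy => by
      rw [hbot] at hy
      rw [mem_bot.mp hy, one_mul, mul_one]⟩
  have hr2 : r ≠ 2 := BG4.ne_two_of_dvd_of_odd hodd
    ((BG4.dvd_card_pCore hbot).trans (card_subgroup_dvd_card _))
  set R := Cfsg.pCore r G with hR
  have hRn : R.Normal := H58.pCore_normal
  have hRr : IsPGroup r R := Cores.pCore_isPGroup
  have hRF : R ≤ Cfsg.fittingSubgroup G := Cores.pCore_le_fittingSubgroup hrp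
  have htop : (⊤ : Subgroup G) ≤ normalizer (R : Set G) := (normalizer_eq_top (H := R)).ge
  have hg' : g ∈ ⁅(⊤ : Subgroup G), (⊤ : Subgroup G)⁆ := by rwa [← _root_.commutator_def]
  by_cases hrk : Cfsg.PRankLE r 2 R
  · exact BG4.exists_pow_mem_centralizer_of_rank_two hr2 hRr hrk htop
      (inferInstance : Group.IsSolvable (⊤ : Subgroup G)) (by rwa [card_top]) hg'
  have hEO : E ≤ Cfsg.pCore p G := by
    refine Cores.le_pCore_of_le_sup (fun e => ⟨1, Subtype.ext (by simpa using hEe.2 e e.2)⟩) ?_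
    refine hE.trans ?_
    rw [Cores.iSup_pCore_eq_fittingSubgroup]
    exact Cores.iSup_pCore_le_sup p
  by_cases hrp' : r = p
  · subst hrp'
    have hEc : Cfsg.IsElementaryAbelian r (E.subgroupOf R) :=
      ⟨PGroups.isMulCommutative_of_comm fun x hx y hy => Subtype.ext
        (PGroups.comm_of_isMulCommutative hEe.1 (mem_subgroupOf.mp hx) (mem_subgroupOf.mp hy)),
        fun x hx => Subtype.ext (by simpa using hEe.2 _ (mem_subgroupOf.mp hx))⟩
    have hle : (centralizer (E.subgroupOf R : Set R)).map R.subtype ≤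
        Cfsg.fittingSubgroup G ⊓ centralizer (E : Set G) := by
      rintro _ ⟨x, hx, rfl⟩
      exact ⟨hRF x.2, mem_centralizer_iff.mpr fun e he =>
        congrArg Subtype.val (mem_centralizer_iff.mp hx ⟨e, hEO he⟩ he)⟩
    have hc : Cfsg.PRankLE r 2 (centralizer (E.subgroupOf R : Set R)) := by
      have h1 := BG4.pRankLE_of_le hle (hr r hrp)
      intro B hB hBe
      set e := (centralizer (E.subgroupOf R : Set R)).equivMapOfInjective R.subtype R.subtype_injective
      rw [← card_map_of_injective (f := e.toMonoidHom) e.injective]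
      refine h1 _ (PGroups.isMulCommutative_of_comm ?_) ?_
      · rintro _ ⟨a, ha, rfl⟩ _ ⟨b, hb, rfl⟩
        rw [← map_mul, ← map_mul, PGroups.comm_of_isMulCommutative hB ha hb]
      · rintro _ ⟨a, ha, rfl⟩
        rw [← map_pow, hBe a ha, map_one]
    obtain ⟨B, hB⟩ := exists_narrowData_of_small_centralizer hRr hrk _ hEc hc
    exact (narrowData_action hB hr2 hRr htop).1 g hg'
  · refine absurd (BG4.pRankLE_of_le (le_inf hRF fun x hx => mem_centralizer_iff.mpr fun e he => ?_)
      (hr r hrp)) hrk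
    have hxp : x ∈ Cfsg.pPrimeCore p G := by
      refine Cores.le_pPrimeCore ?_ hx
      obtain ⟨k, hk⟩ := IsPGroup.iff_card.mp hRr
      rw [hk]
      exact Nat.Coprime.pow_left _ ((Nat.coprime_primes hrp hp.out).mpr hrp')
    exact (Cores.commute_pCore_pPrimeCore (hEO he) hxp).eq

end Cfsg.Agent.OddOrder.BG5
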