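import Cfsg.Agent.OddOrder.BG5.Narrow
import Cfsg.Agent.OddOrder.BG4.RankTwoGroup
import Mathlib.FieldTheory.Finite.Basic

/-!
BG 5.5: automorphisms of narrow `p`-groups.
-/

set_option autoImplicit false

namespace Cfsg.Agent.OddOrder.BG5

open Subgroup
open scoped commutatorElement

universe u

variable {R : Type u} [Group R] [Finite R] {p : ℕ} [hp : Fact p.Prime]

/-- A pair of characteristic subgroups with factor of order at most `p`. -/
def SmallFactor (p : ℕ) (N M : Subgroup R) : Prop :=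
  N.Characteristic ∧ M.Characteristic ∧ M ≤ N ∧ Nat.card N ≤ p * Nat.card M

/-- The automorphisms trivial on all small factors. -/
def stab (p : ℕ) (R : Type u) [Group R] : Subgroup (MulAut R) where
  carrier := {φ | ∀ N M : Subgroup R, SmallFactor p N M → ∀ n ∈ N, n⁻¹ * φ n ∈ M}
  one_mem' := fun N M _ n _ => by simp
  mul_mem' := fun {φ ψ} hφ hψ N M h n hn => by
    have h1 : ψ n ∈ N := (PGroups.apply_mem_iff_of_characteristic h.1 ψ).mpr hn
    have := mul_mem (hψ N M h n hn) (hφ N M h _ h1)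
    rwa [mul_assoc, mul_inv_cancel_left] at this
  inv_mem' := fun {φ} hφ N M h n hn => by
    have h1 : φ⁻¹ n ∈ N := (PGroups.apply_mem_iff_of_characteristic h.1 φ⁻¹).mpr hn
    have h2 := inv_mem (hφ N M h _ h1)
    rwa [MulAut.apply_inv_self, mul_inv_rev, inv_inv] at h2

/-- The image of the top of a small factor has order dividing `p`. -/
theorem card_image_dvd (hR : IsPGroup p R) {N M : Subgroup R} [M.Normal] (h : SmallFactor p N M) :
    Nat.card (N.map (QuotientGroup.mk' M)) ∣ p := by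
  set V := N.map (QuotientGroup.mk' M) with hV
  have h1 := relIndex_mul_relIndex ⊥ M N bot_le h.2.2.1
  rw [relIndex_bot_left, relIndex_bot_left] at h1
  have h2 : M.relIndex N = Nat.card V := by rw [hV, ← relIndex_ker, QuotientGroup.ker_mk']
  have hle : Nat.card V ≤ p := by
    refine Nat.le_of_mul_le_mul_right (?_ : Nat.card V * Nat.card M ≤ p * Nat.card M) Nat.card_pos
    rw [← h2, mul_comm, h1]
    exact h.2.2.2
  obtain ⟨j, hj⟩ := IsPGroup.iff_card.mp ((hR.to_quotient M).to_subgroup V)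
  rw [hj] at hle ⊢
  exact (pow_dvd_pow p ((Nat.pow_le_pow_iff_right hp.out.one_lt).mp
    (hle.trans (pow_one p).ge))).trans (pow_one p).dvd

/-- An automorphism is a power map on a small factor. -/
theorem exists_exponent (hR : IsPGroup p R) {N M : Subgroup R} [M.Normal] (h : SmallFactor p N M)
    (φ : MulAut R) :
    ∃ r : ℤ, ∀ n ∈ N, (QuotientGroup.mk (φ n) : R ⧸ M) = (QuotientGroup.mk n) ^ r := by
  set V := N.map (QuotientGroup.mk' M) with hV
  have hVc : IsCyclic V := by
    rcases (Nat.dvd_prime hp.out).mp (card_image_dvd hR h) with hj | hj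
    · have : Subsingleton V := (Nat.card_eq_one_iff_unique.mp hj).1
      infer_instance
    · exact isCyclic_of_prime_card hj
  obtain ⟨⟨v, hv⟩, hgen⟩ := IsCyclic.exists_generator (α := V)
  obtain ⟨n₀, hn₀, rfl⟩ := hv
  have himg : (QuotientGroup.mk (φ n₀) : R ⧸ M) ∈ V :=
    ⟨φ n₀, (PGroups.apply_mem_iff_of_characteristic h.1 φ).mpr hn₀, rfl⟩
  obtain ⟨r, hr⟩ := mem_zpowers_iff.mp (hgen ⟨_, himg⟩)
  have hr' : (QuotientGroup.mk n₀ : R ⧸ M) ^ r = QuotientGroup.mk (φ n₀) :=
    congrArg Subtype.val hr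
  refine ⟨r, fun n hn => ?_⟩
  obtain ⟨i, hi⟩ := mem_zpowers_iff.mp (hgen ⟨_, mem_map_of_mem _ hn⟩)
  have hi' : (QuotientGroup.mk n₀ : R ⧸ M) ^ i = QuotientGroup.mk n := congrArg Subtype.val hi
  have hm : φ ((n₀ ^ i)⁻¹ * n) ∈ M := by
    refine (PGroups.apply_mem_iff_of_characteristic h.2.1 φ).mpr ?_
    rw [← QuotientGroup.eq, QuotientGroup.mk_zpow]
    exact hi'
  rw [map_mul, map_inv, map_zpow, ← QuotientGroup.eq, QuotientGroup.mk_zpow] at hm
  rw [← hm, ← hr', ← hi', ← zpow_mul, ← zpow_mul, mul_comm r]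

/-- Commutators of automorphisms are trivial on small factors. -/
theorem commutator_le_stab (hR : IsPGroup p R) : commutator (MulAut R) ≤ stab p R := by
  rw [commutator_def, Subgroup.commutator_le]
  intro a _ b _ N M h n hn
  have : M.Normal := normal_of_characteristic (h := h.2.1) M
  obtain ⟨ra, hra⟩ := exists_exponent hR h a
  obtain ⟨rb, hrb⟩ := exists_exponent hR h b
  set m := (b * a)⁻¹ n with hm
  have hmN : m ∈ N := (PGroups.apply_mem_iff_of_characteristic h.1 _).mpr hn
  have hbm : b m ∈ N := (PGroups.apply_mem_iff_of_characteristic h.1 b).mpr hmN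
  have ham : a m ∈ N := (PGroups.apply_mem_iff_of_characteristic h.1 a).mpr hmN
  have e : ⁅a, b⁆ n = a (b m) := by
    rw [hm, ← MulAut.mul_apply, ← MulAut.mul_apply, commutatorElement_def, mul_inv_rev]
    simp only [mul_assoc]
  have h1 : (QuotientGroup.mk (a (b m)) : R ⧸ M) = QuotientGroup.mk (b (a m)) := by
    rw [hra _ hbm, hrb _ hmN, hrb _ ham, hra _ hmN, ← zpow_mul, ← zpow_mul, mul_comm]
  have h2 : b (a m) = n := by rw [hm, ← MulAut.mul_apply, MulAut.apply_inv_self]
  rw [e, ← QuotientGroup.eq, h1, h2]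

/-- `(p - 1)`-th powers are trivial on small factors. -/
theorem pow_pred_mem_stab (hR : IsPGroup p R) (a : MulAut R) : a ^ (p - 1) ∈ stab p R := by
  intro N M h n hn
  have : M.Normal := normal_of_characteristic (h := h.2.1) M
  obtain ⟨r, hr⟩ := exists_exponent hR h a
  have hpow : ∀ k : ℕ, ∀ x ∈ N, (QuotientGroup.mk ((a ^ k) x) : R ⧸ M) = QuotientGroup.mk x ^ r ^ k := by
    intro k
    induction k with
    | zero => intro x _; simp
    | succ k ih =>
      intro x hx
      rw [pow_succ, MulAut.mul_apply, ih _ ((PGroups.apply_mem_iff_of_characteristic h.1 a).mpr hx),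
        hr x hx, ← zpow_mul, ← pow_succ']
  rw [← QuotientGroup.eq, hpow _ n hn]
  by_cases hn1 : (QuotientGroup.mk n : R ⧸ M) = 1
  · rw [hn1, one_zpow]
  have hxp : (QuotientGroup.mk n : R ⧸ M) ^ p = 1 :=
    orderOf_dvd_iff_pow_eq_one.mp ((Subgroup.orderOf_dvd_natCard _
      (mem_map_of_mem (QuotientGroup.mk' M) hn)).trans (card_image_dvd hR h))
  have ho : orderOf (QuotientGroup.mk n : R ⧸ M) = p := orderOf_eq_prime hxp hn1
  have hrp : IsCoprime r (p : ℤ) := by
    refine ((Nat.prime_iff_prime_int.mp hp.out).coprime_iff_not_dvd.mpr fun hd => hn1 ?_).symm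
    have h0 : (QuotientGroup.mk (a n) : R ⧸ M) = 1 := by
      rw [hr n hn, ← orderOf_dvd_iff_zpow_eq_one, ho]
      exact hd
    rw [QuotientGroup.eq_one_iff, PGroups.apply_mem_iff_of_characteristic h.2.1 a] at h0
    rwa [QuotientGroup.eq_one_iff]
  symm
  conv_rhs => rw [← zpow_one (QuotientGroup.mk n : R ⧸ M)]
  rw [zpow_eq_zpow_iff_modEq, ho]
  exact (Int.ModEq.pow_card_sub_one_eq_one hp.out hrp).symm.symm

/-- An element of `R` outside `C(Ω₁ Z₂)` splits off small factors below it. -/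
theorem card_le_mul_commutator {E : Subgroup R} (h : NarrowData p R E) (hp2 : p ≠ 2)
    (hR : IsPGroup p R) (N : Subgroup R) (hNT : N ≤ centralizer (omegaSecond p R : Set R))
    (hexp : ∀ n ∈ N, n ^ p = 1) :
    Nat.card N ≤ p * Nat.card ↥⁅N, (⊤ : Subgroup R)⁆ := by
  classical
  set T := centralizer (omegaSecond p R : Set R) with hT
  obtain ⟨-, -, hnot, -⟩ := h.main hp2 hR
  obtain ⟨x, hxE, hxT⟩ := SetLike.not_le_iff_exists.mp hnot
  obtain ⟨z, hzE, hzc, hzo, -⟩ := h.center_omega hR
  have hzT : z ∈ T := mem_centralizer_iff.mpr fun w _ => Subgroup.mem_center_iff.mp hzc w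
  have hxz : x ∉ zpowers z := fun hx => hxT ((zpowers_le.mpr hzT) hx)
  have hgen : E ≤ zpowers z ⊔ zpowers x := by
    refine (eq_of_le_of_card_ge (sup_le (zpowers_le.mpr hzE) (zpowers_le.mpr hxE)) ?_).ge
    obtain ⟨a, ha⟩ := IsPGroup.iff_card.mp (hR.to_subgroup (zpowers z ⊔ zpowers x))
    rw [h.card_eq, ha]
    refine Nat.pow_le_pow_right hp.out.pos ?_
    by_contra hlt
    refine hxz ((eq_of_le_of_card_ge (le_sup_left : zpowers z ≤ zpowers z ⊔ zpowers x) ?_).ge
      (mem_sup_right (mem_zpowers x)))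
    rw [Nat.card_zpowers, hzo, ha]
    exact le_trans (Nat.pow_le_pow_right hp.out.pos (by omega : a ≤ 1)) (pow_one p).le
  have hET : Nat.card ↥(E ⊓ T) ≤ p := by
    obtain ⟨a, ha⟩ := IsPGroup.iff_card.mp (hR.to_subgroup (E ⊓ T))
    rw [ha]
    refine le_trans (Nat.pow_le_pow_right hp.out.pos (?_ : a ≤ 1)) (pow_one p).le
    by_contra hlt
    exact hxT ((eq_of_le_of_card_ge (inf_le_left : E ⊓ T ≤ E) (by
      rw [h.card_eq, ha]; exact Nat.pow_le_pow_right hp.out.pos (by omega))).ge hxE).2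
  set K := N ⊓ centralizer ({x} : Set R) with hK
  have hKE : K ≤ E ⊓ T := by
    intro y hy
    refine ⟨mem_of_commute h.elementary h.maximal (hexp y hy.1) (mem_centralizer_iff.mpr fun e he => ?_),
      hNT hy.1⟩
    have hle : zpowers z ⊔ zpowers x ≤ centralizer ({y} : Set R) :=
      sup_le (zpowers_le.mpr (mem_centralizer_singleton_iff.mpr
        (Subgroup.mem_center_iff.mp hzc y).symm))
        (zpowers_le.mpr (mem_centralizer_singleton_iff.mpr (mem_centralizer_singleton_iff.mp hy.2).symm))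
    exact mem_centralizer_singleton_iff.mp (hle (hgen he))
  have hinj : Nat.card (N ⧸ K.subgroupOf N) ≤ Nat.card ↥⁅N, (⊤ : Subgroup R)⁆ := by
    refine Nat.card_le_card_of_injective
      (Quotient.lift (fun n : N => (⟨⁅(n : R), x⁆, commutator_mem_commutator n.2 (mem_top x)⟩ :
        ↥⁅N, (⊤ : Subgroup R)⁆)) fun a b hab => Subtype.ext ?_) ?_
    · have hab0 : a⁻¹ * b ∈ K.subgroupOf N := QuotientGroup.leftRel_apply.mp hab
      have hab' : ((a : R)⁻¹ * b) ∈ K := hab0
      have hc := mem_centralizer_singleton_iff.mp hab'.2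
      change ⁅(a : R), x⁆ = ⁅(b : R), x⁆
      rw [commutatorElement_def, commutatorElement_def, mul_left_inj]
      calc (a : R) * x * (a : R)⁻¹ = a * (x * ((a : R)⁻¹ * b)) * (b : R)⁻¹ := by group
        _ = b * x * (b : R)⁻¹ := by rw [← hc]; group
    · intro q r
      induction q using QuotientGroup.induction_on with | _ a =>
      induction r using QuotientGroup.induction_on with | _ b =>
      intro hab
      have hab' : ⁅(a : R), x⁆ = ⁅(b : R), x⁆ := congrArg Subtype.val hab
      rw [commutatorElement_def, commutatorElement_def, mul_left_inj] at hab'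
      rw [QuotientGroup.eq, mem_subgroupOf]
      refine ⟨N.mul_mem (N.inv_mem a.2) b.2, mem_centralizer_singleton_iff.mpr ?_⟩
      calc (a : R)⁻¹ * b * x = (a : R)⁻¹ * (b * x * (b : R)⁻¹) * b := by group
        _ = x * ((a : R)⁻¹ * b) := by rw [← hab']; group
  rw [card_eq_card_quotient_mul_card_subgroup (K.subgroupOf N),
    Nat.card_congr (subgroupOfEquivOfLe (inf_le_left : K ≤ N)).toEquiv, mul_comm p]
  exact Nat.mul_le_mul hinj ((card_le_of_le hKE).trans hET)

/-- A `p'`-automorphism trivial on all small factors is trivial. -/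
theorem eq_one_of_mem_stab {E : Subgroup R} (h : NarrowData p R E) (hp2 : p ≠ 2)
    (hR : IsPGroup p R) {φ : MulAut R} (hφ : φ ∈ stab p R) (ho : (orderOf φ).Coprime p) : φ = 1 := by
  obtain ⟨C, hCc, hCe, hCf⟩ := BG4.exists_char_exponent_subgroup hp2 hR
  obtain ⟨-, -, -, hidx⟩ := h.main hp2 hR
  set T := centralizer (omegaSecond p R : Set R) with hT
  have hTc : T.Characteristic := (narrow_conclusion hp2 hR h).2.2.2.1
  have step : ∀ n m : R, φ n = n * m → φ m = m → m ^ p = 1 → φ n = n := by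
    intro n m h1 h2 h3
    have hiter : ∀ k : ℕ, (φ ^ k) n = n * m ^ k := by
      intro k
      induction k with
      | zero => simp
      | succ k ih => rw [pow_succ', MulAut.mul_apply, ih, map_mul, map_pow, h1, h2, pow_succ',
          mul_assoc]
    have h4 := hiter (orderOf φ)
    rw [pow_orderOf_eq_one, MulAut.one_apply, left_eq_mul] at h4
    have h5 : m = 1 := orderOf_eq_one_iff.mp (Nat.eq_one_of_dvd_coprimes ho
      (orderOf_dvd_of_pow_eq_one h4) (orderOf_dvd_of_pow_eq_one h3))
    rw [h1, h5, mul_one]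
  have main : ∀ (k : ℕ) (N : Subgroup R), Nat.card N ≤ k → N.Characteristic → N ≤ T →
      (∀ n ∈ N, n ^ p = 1) → ∀ n ∈ N, φ n = n := by
    intro k
    induction k with
    | zero => exact fun N hN => absurd Nat.card_pos (not_lt.mpr hN)
    | succ k ih =>
      intro N hN hNc hNT hexp n hn
      by_cases hbot : N = ⊥
      · rw [hbot, mem_bot] at hn
        rw [hn, map_one]
      have hn' : N.Normal := normal_of_characteristic (h := hNc) N
      set M := ⁅N, (⊤ : Subgroup R)⁆ with hM
      have hMN : M ≤ N := commutator_le_left N ⊤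
      have hMc : M.Characteristic := characteristic_iff_map_eq.mpr fun ψ => by
        rw [hM, map_commutator, characteristic_iff_map_eq.mp hNc ψ,
          map_top_of_surjective _ ψ.surjective]
      have hlt : Nat.card M < Nat.card N := by
        refine lt_of_le_of_ne (card_le_of_le hMN) fun he => ?_
        have hMeq : M = N := eq_of_le_of_card_ge hMN he.ge
        obtain ⟨j, hj⟩ := Subgroup.nilpotent_iff_lowerCentralSeries.mp hR.isNilpotent
        have hs : ∀ i, N ≤ (⊤ : Subgroup R).lowerCentralSeries i := by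
          intro i
          induction i with
          | zero => simp
          | succ i ihi =>
            rw [← hMeq, hM, Subgroup.lowerCentralSeries_succ]
            exact commutator_mono ihi le_rfl
        exact hbot (le_bot_iff.mp ((hs j).trans hj.le))
      have hsf : SmallFactor p N M :=
        ⟨hNc, hMc, hMN, card_le_mul_commutator h hp2 hR N hNT hexp⟩
      have hm : n⁻¹ * φ n ∈ M := hφ N M hsf n hn
      exact step n _ (mul_inv_cancel_left n (φ n)).symm
        (ih M (by omega) hMc (hMN.trans hNT) (fun y hy => hexp y (hMN hy)) _ hm) (hexp _ (hMN hm))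
  have hNc : (C ⊓ T).Characteristic := characteristic_iff_le_comap.mpr fun ψ y hy =>
    ⟨(PGroups.apply_mem_iff_of_characteristic hCc ψ).mpr hy.1,
      (PGroups.apply_mem_iff_of_characteristic hTc ψ).mpr hy.2⟩
  have hfix := main _ (C ⊓ T) le_rfl hNc inf_le_right fun n hn => hCe n hn.1
  have hTn : T.Normal := normal_of_characteristic (h := hTc) T
  have hsf : SmallFactor p C (C ⊓ T) := by
    refine ⟨hCc, hNc, inf_le_left, ?_⟩
    have h1 := relIndex_mul_relIndex ⊥ (C ⊓ T) C bot_le inf_le_left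
    rw [relIndex_bot_left, relIndex_bot_left, inf_relIndex_left] at h1
    rw [← h1, mul_comm]
    exact Nat.mul_le_mul_right _ (Nat.le_of_dvd hp.out.pos
      ((relIndex_dvd_index_of_normal _ _).trans hidx.dvd))
  refine hCf φ ho fun n hn => ?_
  have hm : n⁻¹ * φ n ∈ C ⊓ T := hφ C (C ⊓ T) hsf n hn
  exact step n _ (mul_inv_cancel_left n (φ n)).symm (hfix _ hm) (hCe _ hm.1)

/-- BG 5.5, inside the automorphism group. -/
theorem narrow_aut {E : Subgroup R} (h : NarrowData p R E) (hp2 : p ≠ 2) (hR : IsPGroup p R) :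
    IsPGroup p ↥(commutator (MulAut R)) ∧
      ∀ a : MulAut R, (orderOf a).Coprime p → a ^ (p - 1) = 1 := by
  refine ⟨fun ⟨g, hg⟩ => ?_, fun a ha => eq_one_of_mem_stab h hp2 hR (pow_pred_mem_stab hR a)
    (ha.coprime_dvd_left (orderOf_pow_dvd _))⟩
  obtain ⟨m, hm⟩ := Fusion.exists_pow_coprime (p := p) g
  exact ⟨m, Subtype.ext (eq_one_of_mem_stab h hp2 hR
    (pow_mem (commutator_le_stab hR hg) _) hm)⟩

/-- A narrow `p`-group of rank at least three has the data of BG 5.2. -/
theorem exists_narrowData (hR : IsPGroup p R) (hn : Cfsg.IsNarrow p R)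
    (hr : ¬ Cfsg.PRankLE p 2 R) : ∃ E : Subgroup R, NarrowData p R E := by
  obtain ⟨R₀, R₁, h0, h1c, hinf, hcomm, hsup⟩ := hn.resolve_left hr
  set C := centralizer (R₀ : Set R) with hC
  have hR0c : IsCyclic R₀ := isCyclic_of_prime_card h0
  have hR0C : R₀ ≤ C := hsup ▸ le_sup_left
  have hR1C : R₁ ≤ C := hsup ▸ le_sup_right
  have hmem : ∀ x ∈ C, ∃ a ∈ R₀, ∃ b ∈ R₁, x = a * b := by
    intro x hx
    have hn' : R₁ ≤ normalizer (R₀ : Set R) := hR1C.trans (centralizer_le_normalizer _)
    rw [← hsup, ← SetLike.mem_coe, coe_mul_of_right_le_normalizer_left R₀ R₁ hn'] at hx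
    obtain ⟨a, ha, b, hb, rfl⟩ := hx
    exact ⟨a, ha, b, hb, rfl⟩
  have hR0p : ∀ a ∈ R₀, a ^ p = 1 := fun a ha =>
    orderOf_dvd_iff_pow_eq_one.mp (h0 ▸ R₀.orderOf_dvd_natCard ha)
  have hCc : ∀ x ∈ C, ∀ y ∈ C, x * y = y * x := by
    intro x hx y hy
    obtain ⟨a, ha, b, hb, rfl⟩ := hmem x hx
    obtain ⟨c, hc, d, hd, rfl⟩ := hmem y hy
    have hac : Commute a c := PGroups.comm_of_isMulCommutative inferInstance ha hc
    have hbd : Commute b d := PGroups.comm_of_isMulCommutative inferInstance hb hd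
    exact ((hac.mul_right (hcomm a ha d hd)).mul_left
      ((Commute.symm (hcomm c hc b hb)).mul_right hbd)).eq
  let E : Subgroup R :=
    { carrier := {x | x ∈ C ∧ x ^ p = 1}
      one_mem' := ⟨one_mem _, one_pow p⟩
      mul_mem' := fun {x y} hx hy => ⟨mul_mem hx.1 hy.1, by
        rw [Commute.mul_pow (hCc x hx.1 y hy.1), hx.2, hy.2, one_mul]⟩
      inv_mem' := fun {x} hx => ⟨inv_mem hx.1, by rw [inv_pow, hx.2, inv_one]⟩ }
  have hEe : Cfsg.IsElementaryAbelian p E :=
    ⟨PGroups.isMulCommutative_of_comm fun x hx y hy => hCc x hx.1 y hy.1, fun x hx => hx.2⟩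
  have hR0E : R₀ ≤ E := fun a ha => ⟨hR0C ha, hR0p a ha⟩
  have hR1 : R₁ ≠ ⊥ := by
    intro hbot
    rw [hbot, sup_bot_eq] at hsup
    have hctr : center R ≤ R₀ := (center_le_centralizer _).trans hsup.ge
    have : Nontrivial R := by
      refine Finite.one_lt_card_iff_nontrivial.mp (lt_of_lt_of_le ?_ (card_le_card_group R₀))
      rw [h0]; exact hp.out.one_lt
    have hne : center R ≠ ⊥ := (hR.bot_lt_center).ne'
    obtain ⟨k, hk⟩ := IsPGroup.iff_card.mp (hR.to_subgroup (center R))
    have hk0 : k ≠ 0 := fun e => hne (card_eq_one.mp (by rw [hk, e, pow_zero]))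
    have heq : center R = R₀ := eq_of_le_of_card_ge hctr (by
      rw [h0, hk]; exact Nat.le_self_pow hk0 p)
    have htop : R₀ = ⊤ := by
      rw [hsup, hC, centralizer_eq_top_iff_subset]
      exact heq.ge
    refine hr fun B _ _ => ?_
    calc Nat.card B ≤ Nat.card R := card_le_card_group B
      _ = p := by rw [← h0, htop, card_top]
      _ ≤ p ^ 2 := Nat.le_self_pow two_ne_zero p
  refine ⟨E, hr, hEe, le_antisymm ?_ ?_, fun B hB hEB => le_antisymm (fun x hx => ⟨?_, hB.2 x hx⟩) hEB⟩
  · -- at most `p` choices for each coordinate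
    let W : Subgroup R₁ :=
      { carrier := {b | b ^ p = 1}
        one_mem' := one_pow p
        mul_mem' := fun {x y} hx hy => by
          change (x * y) ^ p = 1
          rw [(show Commute x y from mul_comm' x y).mul_pow, hx, hy, one_mul]
        inv_mem' := fun {x} hx => by
          change x⁻¹ ^ p = 1
          rw [inv_pow, hx, inv_one] }
    have hW : Nat.card W ≤ p := by
      classical
      have := Fintype.ofFinite R₁
      refine le_trans (le_of_eq ?_) (IsCyclic.card_pow_eq_one_le hp.out.pos (α := R₁))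
      rw [Nat.card_eq_fintype_card, ← Fintype.card_coe]
      refine Fintype.card_congr (Equiv.subtypeEquivRight fun x => ?_)
      simp [W]
    have hle : Nat.card E ≤ Nat.card R₀ * Nat.card W := by
      rw [← Nat.card_prod]
      refine Nat.card_le_card_of_surjective
        (fun q : R₀ × W => (⟨(q.1 : R) * ((q.2 : R₁) : R),
          mul_mem (hR0E q.1.2) (show ((q.2 : R₁) : R) ∈ E from
            ⟨hR1C (q.2 : R₁).2, by simpa using congrArg Subtype.val q.2.2⟩)⟩ : E)) ?_
      rintro ⟨x, hxC, hxp⟩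
      obtain ⟨a, ha, b, hb, rfl⟩ := hmem x hxC
      have hb1 : b ^ p = 1 := by
        rwa [Commute.mul_pow (hcomm a ha b hb), hR0p a ha, one_mul] at hxp
      exact ⟨(⟨a, ha⟩, ⟨⟨b, hb⟩, Subtype.ext (by simpa using hb1)⟩), rfl⟩
    calc Nat.card E ≤ Nat.card R₀ * Nat.card W := hle
      _ ≤ p ^ 2 := by rw [h0, pow_two]; exact Nat.mul_le_mul_left p hW
  · obtain ⟨b, hb1, hbo⟩ := PGroups.exists_orderOf_eq hR hR1
    have hbE : b ∈ E := ⟨hR1C hb1, hbo ▸ pow_orderOf_eq_one b⟩
    obtain ⟨a, ha⟩ := IsPGroup.iff_card.mp (hR.to_subgroup E)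
    rw [ha]
    refine Nat.pow_le_pow_right hp.out.pos ?_
    by_contra hlt
    have heq : R₀ = E := eq_of_le_of_card_ge hR0E (by
      rw [h0, ha]; exact le_trans (Nat.pow_le_pow_right hp.out.pos (by omega : a ≤ 1)) (pow_one p).le)
    have hb0 : b ∈ R₀ ⊓ R₁ := Subgroup.mem_inf.mpr ⟨heq.ge hbE, hb1⟩
    rw [hinf, mem_bot] at hb0
    rw [hb0, orderOf_one] at hbo
    exact hp.out.ne_one hbo.symm
  · exact mem_centralizer_iff.mpr fun a ha =>
      PGroups.comm_of_isMulCommutative hB.1 (hEB (hR0E ha)) hx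

end Cfsg.Agent.OddOrder.BG5
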